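import Mathlib
import Groth.Prelude
import Groth.Agent.Lib.Helper8.KosDesc.MinLen
import Groth.Agent.Lib.Helper8.KosDesc.Loc2

set_option autoImplicit false
set_option linter.style.haveILetI false

universe u

open CategoryTheory

attribute [local instance] HasDerivedCategory.standard

namespace Groth.Agent.H8.KosQuot

open Groth.Agent.H8.KosDesc

variable {S : Type u} [CommRing S] [IsLocalRing S]

/-- **exchange lemma.**  In a local ring, let `K = (k) ≤ J = (l) ≤ 𝔪` with `k` Koszul-regular
(hence a minimal generating list) and `K ∩ 𝔪J ≤ 𝔪K`.  Then `|k|` of the members of `l` can be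
exchanged for `k`. -/
theorem exists_sublist_generators (k l : List S) (hk : LCI.IsKoszulRegularSeq S k)
    (hKJ : Ideal.ofList k ≤ Ideal.ofList l)
    (hJm : Ideal.ofList l ≤ IsLocalRing.maximalIdeal S)
    (H : Ideal.ofList k ⊓ (IsLocalRing.maximalIdeal S * Ideal.ofList l) ≤
      IsLocalRing.maximalIdeal S * Ideal.ofList k) :
    ∃ s : List S, s.Sublist l ∧ s.length + k.length = l.length ∧
      Ideal.ofList (s ++ k) = Ideal.ofList l := by
  classical
  have hKne : Ideal.ofList k ≠ ⊤ := fun h =>
    (IsLocalRing.maximalIdeal.isMaximal S).ne_top (top_le_iff.mp (h ▸ hKJ.trans hJm))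
  have key : ∀ m, m ≤ k.length → ∃ s : List S, s.Sublist l ∧ s.length + m = l.length ∧
      Ideal.ofList (s ++ k.take m) = Ideal.ofList l := by
    intro m
    induction m with
    | zero =>
      intro _
      exact ⟨l, List.Sublist.refl l, by simp, by simp⟩
    | succ m ih =>
      intro hm
      obtain ⟨s, hsl, hlen, hgen⟩ := ih (by omega)
      have hm' : m < k.length := hm
      have hzK : k[m] ∈ Ideal.ofList k := Ideal.subset_span (List.getElem_mem hm')
      have hzJ : k[m] ∈ Ideal.ofList (s ++ k.take m) := hgen ▸ hKJ hzK
      rw [Ideal.ofList_append] at hzJ
      obtain ⟨y, hy, w, hw, hyw⟩ := Submodule.mem_sup.mp hzJ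
      have hy' : y ∈ Ideal.span (Set.range s.get) := by
        rw [range_get_eq]
        exact hy
      obtain ⟨a, ha⟩ := Ideal.mem_span_range_iff_exists_fun.mp hy'
      have htake : k.take (m + 1) = k.take m ++ [k[m]] := List.take_succ_eq_append_getElem hm'
      have hsJ : ∀ x ∈ s, x ∈ Ideal.ofList l := fun x hx => Ideal.subset_span (hsl.subset hx)
      have hwK : Ideal.ofList (k.take m) ≤ Ideal.ofList k :=
        Ideal.span_mono fun x hx => List.mem_of_mem_take hx
      by_cases hunit : ∃ j, IsUnit (a j)
      · obtain ⟨j, hj⟩ := hunit
        refine ⟨s.eraseIdx j, (List.eraseIdx_sublist s j).trans hsl, ?_, ?_⟩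
        · rw [List.length_eraseIdx_of_lt j.2]
          have := j.2
          omega
        · set T := Ideal.ofList (s.eraseIdx j ++ k.take (m + 1)) with hT
          have hT1 : ∀ x ∈ s.eraseIdx j, x ∈ T := fun x hx =>
            Ideal.subset_span (List.mem_append_left _ hx)
          have hT2 : ∀ x ∈ k.take (m + 1), x ∈ T := fun x hx =>
            Ideal.subset_span (List.mem_append_right _ hx)
          have hzT : k[m] ∈ T := hT2 _ (by
            rw [htake]
            exact List.mem_append_right _ (List.mem_singleton.mpr rfl))
          have hwT : w ∈ T := by
            have : Ideal.ofList (k.take m) ≤ T := by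
              refine Ideal.span_le.mpr fun x hx => hT2 x ?_
              rw [htake]
              exact List.mem_append_left _ hx
            exact this hw
          have hsT : ∀ i : Fin s.length, i ≠ j → s.get i ∈ T := by
            intro i hij
            apply hT1
            rw [List.mem_eraseIdx_iff_getElem]
            exact ⟨i, i.2, fun h => hij (Fin.ext h), rfl⟩
          have hjT : s.get j ∈ T := by
            have h1 : a j * s.get j + ∑ i ∈ Finset.univ.erase j, a i * s.get i = y := by
              rw [Finset.add_sum_erase Finset.univ (fun i => a i * s.get i) (Finset.mem_univ j)]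
              exact ha
            have h2 : a j * s.get j = k[m] - w - ∑ i ∈ Finset.univ.erase j, a i * s.get i := by
              rw [← hyw, ← h1]
              ring
            have h3 : a j * s.get j ∈ T := by
              rw [h2]
              refine Ideal.sub_mem _ (Ideal.sub_mem _ hzT hwT) (Ideal.sum_mem _ fun i hi => ?_)
              exact Ideal.mul_mem_left _ _ (hsT i (Finset.ne_of_mem_erase hi))
            exact (Ideal.unit_mul_mem_iff_mem T hj).mp h3
          apply le_antisymm
          · refine Ideal.span_le.mpr fun x hx => ?_
            rcases List.mem_append.mp hx with h | h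
            · exact hsJ x ((List.eraseIdx_sublist s j).subset h)
            · exact hKJ (Ideal.subset_span (List.mem_of_mem_take h))
          · rw [← hgen]
            refine Ideal.span_le.mpr fun x hx => ?_
            rcases List.mem_append.mp hx with h | h
            · obtain ⟨i, hi, rfl⟩ := List.mem_iff_getElem.mp h
              by_cases hij : (⟨i, hi⟩ : Fin s.length) = j
              · rw [← hij] at hjT
                exact hjT
              · exact hsT ⟨i, hi⟩ hij
            · apply hT2
              rw [htake]
              exact List.mem_append_left _ h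
      · exfalso
        push Not at hunit
        have ham : ∀ j, a j ∈ IsLocalRing.maximalIdeal S := fun j =>
          (IsLocalRing.mem_maximalIdeal _).mpr (hunit j)
        have hy1 : y ∈ IsLocalRing.maximalIdeal S * Ideal.ofList l := by
          rw [← ha]
          refine Ideal.sum_mem _ fun j _ => Ideal.mul_mem_mul (ham j) (hsJ _ (List.get_mem s j))
        have hy2 : y ∈ Ideal.ofList k := by
          have : y = k[m] - w := by rw [← hyw]; ring
          rw [this]
          exact Ideal.sub_mem _ hzK (hwK hw)
        have hy3 : y ∈ IsLocalRing.maximalIdeal S * Ideal.ofList k := H ⟨hy2, hy1⟩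
        have hN : Ideal.ofList k ≤ Ideal.ofList (k.eraseIdx m) := by
          apply Submodule.le_of_le_smul_of_le_jacobson_bot (I := IsLocalRing.maximalIdeal S)
          · exact Submodule.fg_span (List.finite_toSet k)
          · rw [IsLocalRing.jacobson_eq_maximalIdeal ⊥ bot_ne_top]
          · refine Ideal.span_le.mpr fun x hx => ?_
            obtain ⟨i, hi, rfl⟩ := List.mem_iff_getElem.mp hx
            by_cases him : i = m
            · subst him
              rw [← hyw]
              refine Submodule.add_mem_sup ?_ ?_ |> fun h => by
                rw [sup_comm]; exact h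
              · exact hy3
              · have : Ideal.ofList (k.take i) ≤ Ideal.ofList (k.eraseIdx i) := by
                  refine Ideal.span_mono fun x hx => ?_
                  obtain ⟨j, hj, rfl⟩ := List.mem_take_iff_getElem.mp hx
                  change _ ∈ k.eraseIdx i
                  rw [List.mem_eraseIdx_iff_getElem]
                  exact ⟨j, by omega, by omega, rfl⟩
                exact this hw
            · apply Ideal.mem_sup_left
              apply Ideal.subset_span
              change _ ∈ k.eraseIdx m
              rw [List.mem_eraseIdx_iff_getElem]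
              exact ⟨i, hi, him, rfl⟩
        have heq : Ideal.ofList (k.eraseIdx m) = Ideal.ofList k :=
          le_antisymm (Ideal.span_mono fun x hx => (List.eraseIdx_sublist k m).subset hx) hN
        have hle := length_le_of_isKoszulRegularSeq hKne k hk rfl (k.eraseIdx m) heq
        rw [List.length_eraseIdx_of_lt hm'] at hle
        omega
  obtain ⟨s, h1, h2, h3⟩ := key k.length le_rfl
  refine ⟨s, h1, h2, ?_⟩
  rwa [List.take_length] at h3

end Groth.Agent.H8.KosQuot
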