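import Mathlib
import Groth.Prelude

set_option autoImplicit false
set_option linter.style.haveILetI false

universe u

namespace Groth.Agent.H8.KosQuot

variable {R : Type u} [CommRing R]

/-- transfer of the hypothesis `K ∩ 𝔮J ≤ 𝔮K` to the local ring at `𝔮`. -/
theorem inf_mul_le_atPrime (𝔮 : Ideal R) [𝔮.IsPrime] (K J : Ideal R)
    (H : ∀ x ∈ K, x ∈ 𝔮 * J → x ∈ 𝔮 * K) :
    K.map (algebraMap R (Localization.AtPrime 𝔮)) ⊓
      (IsLocalRing.maximalIdeal (Localization.AtPrime 𝔮) *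
        J.map (algebraMap R (Localization.AtPrime 𝔮))) ≤
    IsLocalRing.maximalIdeal (Localization.AtPrime 𝔮) *
      K.map (algebraMap R (Localization.AtPrime 𝔮)) := by
  rw [← Localization.AtPrime.map_eq_maximalIdeal, ← Ideal.map_mul, ← Ideal.map_mul]
  rintro ξ ⟨h1, h2⟩
  rw [SetLike.mem_coe, IsLocalization.mem_map_algebraMap_iff 𝔮.primeCompl] at h1 h2
  obtain ⟨⟨⟨x, hx⟩, t⟩, e1⟩ := h1
  obtain ⟨⟨⟨y, hy⟩, t'⟩, e2⟩ := h2
  simp only at e1 e2
  have e3 : algebraMap R (Localization.AtPrime 𝔮) (x * t') =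
      algebraMap R (Localization.AtPrime 𝔮) (y * t) := by
    rw [map_mul, map_mul, ← e1, ← e2]
    ring
  obtain ⟨u, hu⟩ := (IsLocalization.eq_iff_exists 𝔮.primeCompl (Localization.AtPrime 𝔮)).mp e3
  have h4 : (u : R) * (x * t') ∈ 𝔮 * K := by
    apply H
    · exact Ideal.mul_mem_left _ _ (Ideal.mul_mem_right _ _ hx)
    · rw [hu]
      exact Ideal.mul_mem_left _ _ (Ideal.mul_mem_right _ _ hy)
  rw [IsLocalization.mem_map_algebraMap_iff 𝔮.primeCompl]
  refine ⟨⟨⟨(u : R) * (x * t'), h4⟩, u * t' * t⟩, ?_⟩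
  simp only [Submonoid.coe_mul, map_mul]
  rw [← e1]
  ring

end Groth.Agent.H8.KosQuot
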