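import Mathlib
import Groth.Prelude
import Groth.Agent.Lib.Helper8.KosDesc.Main
import Groth.Agent.Lib.Helper8.KosDesc.FG
import Groth.Agent.Lib.Helper8.KosQuot.Exch
import Groth.Agent.Lib.Helper8.KosQuot.LocHyp
import Groth.Agent.Lib.Helper8.Kos.Concat
import Groth.Agent.Lib.Helper8.Kos.KRIdeal

set_option autoImplicit false
set_option linter.style.haveILetI false

universe u

open CategoryTheory

attribute [local instance] HasDerivedCategory.standard

namespace Groth.Agent.H8.KosQuot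

open Groth.Agent.H8.KosDesc

variable {R : Type u} [CommRing R]

/-- local data at a prime: lists `FK` and `Fs` in `R` such that `FK` and `Fs ++ FK` are
Koszul-regular on `D(r)` and generate `K` resp. `J` there. -/
theorem exists_torsKR_pair (K J : Ideal R) (hKJ : K ≤ J) (hK : LCI.IsKoszulRegularIdeal K)
    (hJ : LCI.IsKoszulRegularIdeal J) (𝔮 : Ideal R) [𝔮.IsPrime] (hJ𝔮 : J ≤ 𝔮)
    (H : ∀ x ∈ K, x ∈ 𝔮 * J → x ∈ 𝔮 * K) :
    ∃ (r : R) (FK Fs : List R), r ∉ 𝔮 ∧ TorsKR R FK r ∧ TorsKR R (Fs ++ FK) r ∧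
      Ideal.ofList FK ≤ K ∧ (∀ z ∈ K, r * z ∈ Ideal.ofList FK) ∧
      Ideal.ofList (Fs ++ FK) ≤ J ∧ (∀ z ∈ J, r * z ∈ Ideal.ofList (Fs ++ FK)) := by
  classical
  have hK𝔮 : K ≤ 𝔮 := hKJ.trans hJ𝔮
  obtain ⟨N, x, hx⟩ := (Submodule.fg_iff_exists_fin_generating_family).mp
    (fg_of_isKoszulRegularIdeal K hK)
  obtain ⟨M, y, hy⟩ := (Submodule.fg_iff_exists_fin_generating_family).mp
    (fg_of_isKoszulRegularIdeal J hJ)
  change Ideal.span (Set.range x) = K at hx
  change Ideal.span (Set.range y) = J at hy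
  obtain ⟨g₁, hg₁, k, hk, hgenK⟩ := hK ⟨𝔮, inferInstance⟩ hK𝔮
  obtain ⟨g₂, hg₂, l, hl, hgenJ⟩ := hJ ⟨𝔮, inferInstance⟩ hJ𝔮
  change g₁ ∉ 𝔮 at hg₁
  change g₂ ∉ 𝔮 at hg₂
  obtain ⟨LK, hLKlen, hLK, hLKgen⟩ := exists_atPrime_of_away 𝔮 g₁ hg₁ k hk K hgenK
  obtain ⟨LJ, hLJlen, hLJ, hLJgen⟩ := exists_atPrime_of_away 𝔮 g₂ hg₂ l hl J hgenJ
  have hLKm : Ideal.ofList LK ≤ IsLocalRing.maximalIdeal (Localization.AtPrime 𝔮) := hLKgen ▸ map_le_maximalIdeal 𝔮 K hK𝔮
  have hLJm : Ideal.ofList LJ ≤ IsLocalRing.maximalIdeal (Localization.AtPrime 𝔮) := hLJgen ▸ map_le_maximalIdeal 𝔮 J hJ𝔮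
  obtain ⟨κ, -, hκ⟩ := exists_selection_atPrime (A := R) 𝔮 LK hLK hLKm x (by rw [hx, hLKgen])
  obtain ⟨μ, -, hμ⟩ := exists_selection_atPrime (A := R) 𝔮 LJ hLJ hLJm y (by rw [hy, hLJgen])
  set fK : Fin LK.length → R := x ∘ κ with hfK
  set fJ : Fin LJ.length → R := y ∘ μ with hfJ
  set FK : List R := List.ofFn fK with hFK
  set FJ0 : List R := List.ofFn fJ with hFJ0
  set k' : List (Localization.AtPrime 𝔮) := FK.map (algebraMap R (Localization.AtPrime 𝔮)) with hk'
  set l' : List (Localization.AtPrime 𝔮) := FJ0.map (algebraMap R (Localization.AtPrime 𝔮)) with hl'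
  have hk'gen : Ideal.ofList k' = K.map (algebraMap R (Localization.AtPrime 𝔮)) := by
    rw [hk', hFK, ofList_ofFn_map, hκ, hLKgen]
  have hl'gen : Ideal.ofList l' = J.map (algebraMap R (Localization.AtPrime 𝔮)) := by
    rw [hl', hFJ0, ofList_ofFn_map, hμ, hLJgen]
  have hk'KR : LCI.IsKoszulRegularSeq (Localization.AtPrime 𝔮) k' :=
    Groth.Agent.H8.KosIndep.isKoszulRegularSeq_of_ofList_eq LK k'
      (by rw [hk', List.length_map, hFK, List.length_ofFn]) (by rw [hk'gen, hLKgen]) hLK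
  have H' : Ideal.ofList k' ⊓ (IsLocalRing.maximalIdeal (Localization.AtPrime 𝔮) * Ideal.ofList l') ≤
      IsLocalRing.maximalIdeal (Localization.AtPrime 𝔮) * Ideal.ofList k' := by
    rw [hk'gen, hl'gen]
    exact inf_mul_le_atPrime 𝔮 K J H
  obtain ⟨s', hs'sub, hs'len, hs'gen⟩ := exists_sublist_generators k' l' hk'KR
    (by rw [hk'gen, hl'gen]; exact Ideal.map_mono hKJ)
    (by rw [hl'gen]; exact map_le_maximalIdeal 𝔮 J hJ𝔮) H'
  obtain ⟨Fs, hFssub, rfl⟩ := List.sublist_map_iff.mp hs'sub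
  set FJ : List R := Fs ++ FK with hFJ
  have hFJmap : (Ideal.ofList FJ).map (algebraMap R (Localization.AtPrime 𝔮)) = J.map (algebraMap R (Localization.AtPrime 𝔮)) := by
    rw [Ideal.map_ofList, hFJ, List.map_append, hs'gen, hl'gen]
  have hFKmap : (Ideal.ofList FK).map (algebraMap R (Localization.AtPrime 𝔮)) = K.map (algebraMap R (Localization.AtPrime 𝔮)) := by
    rw [Ideal.map_ofList, ← hk'gen]
  have hfKmem : ∀ i, fK i ∈ K := fun i => hx ▸ Ideal.subset_span ⟨κ i, rfl⟩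
  have hfJmem : ∀ i, fJ i ∈ J := fun i => hy ▸ Ideal.subset_span ⟨μ i, rfl⟩
  have hFK_le : Ideal.ofList FK ≤ K := by
    rw [hFK, ofList_ofFn, Ideal.span_le]
    rintro _ ⟨i, rfl⟩
    exact hfKmem i
  have hFJ_le : Ideal.ofList FJ ≤ J := by
    refine Ideal.span_le.mpr fun z hz => ?_
    rcases List.mem_append.mp hz with h | h
    · have h1 : z ∈ FJ0 := hFssub.subset h
      rw [hFJ0, List.mem_ofFn] at h1
      obtain ⟨i, rfl⟩ := h1
      exact hfJmem i
    · exact hKJ (hFK_le (Ideal.subset_span h))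
  obtain ⟨u₁, hu₁𝔮, hu₁⟩ := exists_mul_mem_of_atPrime (A := R) 𝔮 x (Ideal.ofList FK) (by
    intro j
    rw [hFKmap]
    exact Ideal.mem_map_of_mem _ (hx ▸ Ideal.subset_span ⟨j, rfl⟩))
  obtain ⟨u₂, hu₂𝔮, hu₂⟩ := exists_mul_mem_of_atPrime (A := R) 𝔮 y (Ideal.ofList FJ) (by
    intro j
    rw [hFJmap]
    exact Ideal.mem_map_of_mem _ (hy ▸ Ideal.subset_span ⟨j, rfl⟩))
  have hu₁' : u₁ ∉ 𝔮 := hu₁𝔮
  have hu₂' : u₂ ∉ 𝔮 := hu₂𝔮
  have hu₁K : ∀ z ∈ K, u₁ * z ∈ Ideal.ofList FK := by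
    rw [← hx]
    exact forall_mul_mem_of_generators x _ u₁ hu₁
  have hu₂J : ∀ z ∈ J, u₂ * z ∈ Ideal.ofList FJ := by
    rw [← hy]
    exact forall_mul_mem_of_generators y _ u₂ hu₂
  have hlenK : FK.length = k.length := by rw [hFK, List.length_ofFn, hLKlen]
  have hlenJ : FJ.length = l.length := by
    have h1 : (Fs.map (algebraMap R (Localization.AtPrime 𝔮))).length + k'.length = l'.length := hs'len
    simp only [hk', hl', hFK, hFJ0, List.length_map, List.length_ofFn] at h1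
    rw [hFJ, List.length_append, hFK, List.length_ofFn, h1, hLJlen]
  have hT₁ : TorsKR R FK (g₁ * u₁) := torsKR_of_chart K g₁ k hk hgenK FK hlenK u₁ hFK_le hu₁K
  have hT₂ : TorsKR R FJ (g₂ * u₂) := torsKR_of_chart J g₂ l hl hgenJ FJ hlenJ u₂ hFJ_le hu₂J
  refine ⟨(g₁ * u₁) * (g₂ * u₂), FK, Fs, ?_, torsKR_mul _ _ _ hT₁, ?_, hFK_le, ?_, hFJ_le, ?_⟩
  · intro hmem
    rcases (inferInstance : 𝔮.IsPrime).mem_or_mem hmem with h | h
    · rcases (inferInstance : 𝔮.IsPrime).mem_or_mem h with h | h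
      · exact hg₁ h
      · exact hu₁' h
    · rcases (inferInstance : 𝔮.IsPrime).mem_or_mem h with h | h
      · exact hg₂ h
      · exact hu₂' h
  · rw [mul_comm]
    exact torsKR_mul _ _ _ hT₂
  · intro z hz
    have : g₁ * u₁ * (g₂ * u₂) * z = (g₁ * (g₂ * u₂)) * (u₁ * z) := by ring
    rw [this]
    exact Ideal.mul_mem_left _ _ (hu₁K z hz)
  · intro z hz
    have : g₁ * u₁ * (g₂ * u₂) * z = (g₁ * u₁ * g₂) * (u₂ * z) := by ring
    rw [this]
    exact Ideal.mul_mem_left _ _ (hu₂J z hz)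

end Groth.Agent.H8.KosQuot

namespace Groth.Agent.H8.KosQuot

open Groth.Agent.H8.KosDesc

variable {R : Type u} [CommRing R]

/-- **quotient of Koszul-regular ideals.**  Let `K ≤ J` be Koszul-regular ideals of `R` such that
`K ∩ 𝔮J ≤ 𝔮K` for all primes `𝔮 ⊇ J` (the map `K ⊗ κ(𝔮) → J ⊗ κ(𝔮)` is injective).  Then the
image of `J` in `R ⧸ K` is Koszul-regular. -/
theorem isKoszulRegularIdeal_map_mk (K J : Ideal R) (hKJ : K ≤ J)
    (hK : LCI.IsKoszulRegularIdeal K) (hJ : LCI.IsKoszulRegularIdeal J)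
    (H : ∀ 𝔮 : Ideal R, 𝔮.IsPrime → J ≤ 𝔮 → ∀ x ∈ K, x ∈ 𝔮 * J → x ∈ 𝔮 * K) :
    LCI.IsKoszulRegularIdeal (J.map (Ideal.Quotient.mk K)) := by
  apply Groth.Agent.H8.KosIndep.isKoszulRegularIdeal_of_models
  intro 𝔮' h𝔮'
  haveI : (𝔮'.asIdeal.comap (Ideal.Quotient.mk K)).IsPrime := inferInstance
  have hJ𝔮 : J ≤ 𝔮'.asIdeal.comap (Ideal.Quotient.mk K) := Ideal.map_le_iff_le_comap.mp h𝔮'
  obtain ⟨r, FK, Fs, hr, hTK, hTJ, hFK_le, hrK, hFJ_le, hrJ⟩ :=
    exists_torsKR_pair K J hKJ hK hJ (𝔮'.asIdeal.comap (Ideal.Quotient.mk K)) hJ𝔮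
      (H _ inferInstance hJ𝔮)
  have hKRK : LCI.IsKoszulRegularSeq (Localization.Away r)
      (FK.map (algebraMap R (Localization.Away r))) :=
    isKoszulRegularSeq_of_torsKR FK r (Localization.Away r) hTK
  have hKRJ : LCI.IsKoszulRegularSeq (Localization.Away r)
      ((Fs ++ FK).map (algebraMap R (Localization.Away r))) :=
    isKoszulRegularSeq_of_torsKR _ r (Localization.Away r) hTJ
  have hunit : IsUnit (algebraMap R (Localization.Away r) r) :=
    IsLocalization.Away.algebraMap_isUnit r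
  have hKmap : K.map (algebraMap R (Localization.Away r)) =
      (Ideal.ofList FK).map (algebraMap R (Localization.Away r)) :=
    map_eq_map_of_isUnit K _ hFK_le r hrK hunit
  have hJmap : J.map (algebraMap R (Localization.Away r)) =
      (Ideal.ofList (Fs ++ FK)).map (algebraMap R (Localization.Away r)) :=
    map_eq_map_of_isUnit J _ hFJ_le r hrJ hunit
  have hker : RingHom.ker (algebraMap (Localization.Away r)
      (Localization.Away r ⧸ K.map (algebraMap R (Localization.Away r)))) =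
      Ideal.span {x | x ∈ FK.map (algebraMap R (Localization.Away r))} := by
    rw [Ideal.Quotient.algebraMap_eq, Ideal.mk_ker, hKmap, Ideal.map_ofList]
  have hs : Function.Surjective (algebraMap (Localization.Away r)
      (Localization.Away r ⧸ K.map (algebraMap R (Localization.Away r)))) :=
    Ideal.Quotient.mk_surjective
  have hKRs : LCI.IsKoszulRegularSeq
      (Localization.Away r ⧸ K.map (algebraMap R (Localization.Away r)))
      ((Fs.map (algebraMap R (Localization.Away r))).map (algebraMap (Localization.Away r)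
        (Localization.Away r ⧸ K.map (algebraMap R (Localization.Away r))))) :=
    Groth.Agent.H8.KosConcat.isKoszulRegularSeq_map_of_append
      (FK.map (algebraMap R (Localization.Away r))) (Fs.map (algebraMap R (Localization.Away r)))
      hKRK hs hker (by rwa [← List.map_append])
  refine ⟨Ideal.Quotient.mk K r, hr,
    Localization.Away r ⧸ K.map (algebraMap R (Localization.Away r)), inferInstance,
    inferInstance, ?_, _, hKRs, ?_⟩
  · have h1 : IsLocalization (Algebra.algebraMapSubmonoid (R ⧸ K) (Submonoid.powers r))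
        (Localization.Away r ⧸ K.map (algebraMap R (Localization.Away r))) := inferInstance
    have h2 : Algebra.algebraMapSubmonoid (R ⧸ K) (Submonoid.powers r) =
        Submonoid.powers (Ideal.Quotient.mk K r) := by
      rw [Algebra.algebraMapSubmonoid, Submonoid.map_powers]
      rfl
    rw [h2] at h1
    exact h1
  · have hcomp : (algebraMap (R ⧸ K)
        (Localization.Away r ⧸ K.map (algebraMap R (Localization.Away r)))).comp
        (Ideal.Quotient.mk K) =
        (Ideal.Quotient.mk (K.map (algebraMap R (Localization.Away r)))).comp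
          (algebraMap R (Localization.Away r)) := by
      ext a
      rfl
    rw [Ideal.map_map, hcomp, ← Ideal.map_map, hJmap, Ideal.ofList_append, Ideal.map_sup,
      Ideal.map_sup, ← hKmap, Ideal.map_quotient_self, sup_bot_eq, Ideal.map_ofList,
      Ideal.map_ofList]
    rfl

end Groth.Agent.H8.KosQuot
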