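import Mathlib
import Groth.Prelude

set_option autoImplicit false
set_option linter.style.haveILetI false

universe u

open TensorProduct KaehlerDifferential

namespace Groth.Agent.H8.KosQuot

section


/-- if `P → A'` is a surjection of formally smooth `A`-algebras with kernel `K`, then
`K ∩ 𝔞J ≤ 𝔞K` for all ideals `K ≤ J ≤ 𝔞`: the conormal map `K/K² → Ω ⊗ A'` is split injective. -/
theorem mem_mul_ker_of_formallySmooth (A P A' : Type u) [CommRing A] [CommRing P] [CommRing A']
    [Algebra A P] [Algebra A A'] [Algebra P A'] [IsScalarTower A P A']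
    [Algebra.FormallySmooth A P] [Algebra.FormallySmooth A A']
    (hs : Function.Surjective (algebraMap P A'))
    (𝔞 J : Ideal P) (hKJ : RingHom.ker (algebraMap P A') ≤ J) (hJ𝔞 : J ≤ 𝔞) (x : P)
    (hxK : x ∈ RingHom.ker (algebraMap P A')) (hx : x ∈ 𝔞 * J) :
    x ∈ 𝔞 * RingHom.ker (algebraMap P A') := by
  set K := RingHom.ker (algebraMap P A') with hK
  obtain ⟨l, hl⟩ := (Algebra.FormallySmooth.iff_split_injection (R := A) (P := P) (A := A') hs).mp
    inferInstance
  -- `1 ⊗ D x ∈ 𝔞 • ⊤`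
  have h1 : ((1 : A') ⊗ₜ[P] D A P x) ∈ (𝔞 • ⊤ : Submodule P (A' ⊗[P] Ω[P⁄A])) := by
    refine Submodule.mul_induction_on hx ?_ ?_
    · intro a ha b hb
      rw [Derivation.leibniz, TensorProduct.tmul_add, TensorProduct.tmul_smul,
        TensorProduct.tmul_smul]
      exact Submodule.add_mem _ (Submodule.smul_mem_smul ha Submodule.mem_top)
        (Submodule.smul_mem_smul (hJ𝔞 hb) Submodule.mem_top)
    · intro y z hy hz
      rw [map_add, TensorProduct.tmul_add]
      exact Submodule.add_mem _ hy hz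
  -- apply the retraction
  have h2 : K.toCotangent ⟨x, hxK⟩ ∈ (𝔞 • ⊤ : Submodule P K.Cotangent) := by
    have h3 : K.toCotangent ⟨x, hxK⟩ = l (kerCotangentToTensor A P A' (K.toCotangent ⟨x, hxK⟩)) := by
      rw [← LinearMap.comp_apply, hl, LinearMap.id_apply]
    rw [h3, kerCotangentToTensor_toCotangent]
    have h4 : (𝔞 • ⊤ : Submodule P (A' ⊗[P] Ω[P⁄A])).map l ≤ 𝔞 • ⊤ := by
      rw [Submodule.map_smul'']
      exact Submodule.smul_mono le_rfl le_top
    exact h4 (Submodule.mem_map_of_mem h1)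
  -- lift to `K`
  have h5 : (𝔞 • ⊤ : Submodule P K.Cotangent) = (𝔞 • ⊤ : Submodule P K).map K.toCotangent := by
    rw [Submodule.map_smul'', Submodule.map_top, LinearMap.range_eq_top.mpr K.toCotangent_surjective]
  rw [h5] at h2
  obtain ⟨z, hz, hzx⟩ := h2
  have h6 : ((z : P) - x) ∈ K ^ 2 := by
    have := (Ideal.toCotangent_eq (I := K) (x := z) (y := ⟨x, hxK⟩)).mp hzx
    exact this
  have h7 : (z : P) ∈ 𝔞 * K := by
    have h8 : (𝔞 • ⊤ : Submodule P K).map K.subtype = 𝔞 * K := by
      rw [Submodule.map_smul'', Submodule.map_subtype_top]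
      rfl
    rw [← h8]
    exact Submodule.mem_map_of_mem hz
  have h9 : K ^ 2 ≤ 𝔞 * K := by
    rw [pow_two]
    exact Ideal.mul_mono_left (hKJ.trans hJ𝔞)
  have : x = (z : P) - ((z : P) - x) := by ring
  rw [this]
  exact Ideal.sub_mem _ h7 (h9 h6)

end

end Groth.Agent.H8.KosQuot
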