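import Mathlib
import Groth.Prelude
import Groth.Agent.Lib.Helper8.KosQuot.Quot
import Groth.Agent.Lib.Helper8.KosQuot.Smooth
import Groth.Agent.Lib.Helper8.Kos.Pres
import Groth.Agent.Lib.Helper8.LCIHom.KAt

set_option autoImplicit false
set_option linter.style.haveILetI false

universe u

open CategoryTheory

attribute [local instance] HasDerivedCategory.standard

namespace Groth.Agent.H8.KosQuot

open Groth.Agent.H8.LCIHom

/-- **(S)** a closed subscheme of a smooth `A`-scheme which is LCI over `A` is cut out by a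
Koszul-regular ideal. -/
theorem isKoszulRegularIdeal_ker_of_smooth_of_isLCI (A A' B : Type u) [CommRing A] [CommRing A']
    [CommRing B] [Algebra A A'] [Algebra A' B] [Algebra A B] [IsScalarTower A A' B]
    [Algebra.Smooth A A'] (hs : Function.Surjective (algebraMap A' B)) (h : LCI.IsLCI A B) :
    LCI.IsKoszulRegularIdeal (RingHom.ker (algebraMap A' B)) := by
  have hA' : LCI.IsLCI A A' :=
    isLCIHom_algebraMap_iff.mp (isLCIHom_of_smooth (algebraMap A A')
      (RingHom.smooth_algebraMap.mpr inferInstance))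
  obtain ⟨hft, m, γ, hγ, hKγ⟩ := hA'
  obtain ⟨n, α, hα⟩ := Algebra.FiniteType.iff_quotient_mvPolynomial''.mp hft
  have hKα : LCI.IsKoszulRegularIdeal (RingHom.ker α.toRingHom) :=
    Groth.Agent.H8.KosIndep.main9269 A A' m n γ hγ α hα hKγ
  obtain ⟨-, m', δ, hδ, hKδ⟩ := h
  let β : MvPolynomial (Fin n) A →ₐ[A] B := (IsScalarTower.toAlgHom A A' B).comp α
  have hβ : Function.Surjective β := hs.comp hα
  have hKβ : LCI.IsKoszulRegularIdeal (RingHom.ker β.toRingHom) :=
    Groth.Agent.H8.KosIndep.main9269 A B m' n δ hδ β hβ hKδ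
  have hβker : RingHom.ker β.toRingHom = (RingHom.ker (algebraMap A' B)).comap α.toRingHom := by
    ext x
    rfl
  have hle : RingHom.ker α.toRingHom ≤ RingHom.ker β.toRingHom := by
    rw [hβker, RingHom.ker_eq_comap_bot]
    exact Ideal.comap_mono bot_le
  letI : Algebra (MvPolynomial (Fin n) A) A' := α.toRingHom.toAlgebra
  haveI : IsScalarTower A (MvPolynomial (Fin n) A) A' :=
    IsScalarTower.of_algebraMap_eq' α.comp_algebraMap.symm
  have hQ := isKoszulRegularIdeal_map_mk (RingHom.ker α.toRingHom) (RingHom.ker β.toRingHom) hle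
    hKα hKβ (fun 𝔮 _ h𝔮 x hxK hx =>
      mem_mul_ker_of_formallySmooth A (MvPolynomial (Fin n) A) A' hα 𝔮 (RingHom.ker β.toRingHom)
        hle h𝔮 x hxK hx)
  let e : (MvPolynomial (Fin n) A ⧸ RingHom.ker α.toRingHom) ≃+* A' :=
    RingHom.quotientKerEquivOfSurjective hα
  have h1 := Groth.Agent.H8.KosIndep.isKoszulRegularIdeal_map_ringEquiv e _ hQ
  have h2 : ((RingHom.ker β.toRingHom).map (Ideal.Quotient.mk (RingHom.ker α.toRingHom))).map
      (e : _ →+* A') = RingHom.ker (algebraMap A' B) := by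
    rw [Ideal.map_map]
    have h3 : (e : _ →+* A').comp (Ideal.Quotient.mk (RingHom.ker α.toRingHom)) = α.toRingHom := by
      ext x <;> rfl
    rw [h3, hβker]
    exact Ideal.map_comap_of_surjective _ hα _
  rw [h2] at h1
  exact h1

end Groth.Agent.H8.KosQuot
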