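import Mathlib
import Groth.Prelude
import Groth.Agent.Lib.Helper8.KosQuot.S
import Groth.Agent.Lib.Helper8.LCIHom.KAt2

set_option autoImplicit false
set_option linter.style.haveILetI false

universe u

open CategoryTheory CategoryTheory.Limits AlgebraicGeometry

attribute [local instance] HasDerivedCategory.standard

namespace Groth.Agent.H8.KosQuot

open Groth.Agent.H8.LCIHom

/-- ring-hom form of (S). -/
theorem isKoszulRegularIdeal_ker_of_smooth_of_isLCIHom {A A' B : Type u} [CommRing A]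
    [CommRing A'] [CommRing B] (φ : A →+* A') (ψ : A' →+* B) (hφ : φ.Smooth)
    (hψ : Function.Surjective ψ) (h : IsLCIHom (ψ.comp φ)) :
    LCI.IsKoszulRegularIdeal (RingHom.ker ψ) := by
  letI : Algebra A A' := φ.toAlgebra
  letI : Algebra A' B := ψ.toAlgebra
  letI : Algebra A B := (ψ.comp φ).toAlgebra
  haveI : IsScalarTower A A' B := IsScalarTower.of_algebraMap_eq' rfl
  haveI : Algebra.Smooth A A' := hφ
  exact isKoszulRegularIdeal_ker_of_smooth_of_isLCI A A' B hψ h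

/-- **(T')** an immersion into a smooth `Y`-scheme whose composite to `Y` is LCI is a
Koszul-regular immersion. -/
theorem isRegularImmersion_of_lcip_comp_smooth {X Z Y : Scheme.{u}} (j : X ⟶ Z) [IsImmersion j]
    (p : Z ⟶ Y) [Smooth p] (h : LCIP (j ≫ p)) : RegImm.IsRegularImmersion .koszul j := by
  refine ⟨inferInstance, fun x => ?_⟩
  obtain ⟨V, hV, hxV, -⟩ :=
    exists_isAffineOpen_mem_and_subset (X := Y) (x := p (j x)) (U := ⊤) trivial
  have hxc : j x ∈ j.coborderRange := by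
    have h1 : j.coborderRange.ι (j.liftCoborder x) = j x := congr($(j.liftCoborder_ι).base x)
    rw [← h1]
    exact (j.liftCoborder x).2
  obtain ⟨W, hW, hxW, hWle⟩ :=
    exists_isAffineOpen_mem_and_subset (X := Z) (x := j x) (U := p ⁻¹ᵁ V ⊓ j.coborderRange)
      ⟨hxV, hxc⟩
  have hWV : W ≤ p ⁻¹ᵁ V := hWle.trans inf_le_left
  have hWc : W ≤ j.coborderRange := hWle.trans inf_le_right
  haveI hcl : IsClosedImmersion (j ∣_ W) :=
    Groth.Agent.H1.RegImmersion.isClosedImmersion_morphismRestrict j W hWc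
  obtain ⟨hWa, hsurj⟩ :=
    Groth.Agent.H1.RegImmersion.affine_and_surjective_of_isClosedImmersion_restrict j W hW
  have e : j ⁻¹ᵁ W ≤ (j ≫ p) ⁻¹ᵁ V := by
    intro z hz
    exact hWV hz
  have hlci : IsLCIHom ((j ≫ p).appLE V (j ⁻¹ᵁ W) e).hom :=
    (HasRingHomProperty.iff_appLE (P := LCIP)).mp h ⟨V, hV⟩ ⟨j ⁻¹ᵁ W, hWa⟩ e
  have hcomp : (j ≫ p).appLE V (j ⁻¹ᵁ W) e = p.appLE V W hWV ≫ j.appLE W (j ⁻¹ᵁ W) le_rfl :=
    (Scheme.Hom.appLE_comp_appLE j p V W (j ⁻¹ᵁ W) hWV le_rfl).symm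
  have happ : j.appLE W (j ⁻¹ᵁ W) le_rfl = j.app W := Scheme.Hom.appLE_eq_app ..
  rw [hcomp, happ, CommRingCat.hom_comp] at hlci
  have hsm : (p.appLE V W hWV).hom.Smooth :=
    HasRingHomProperty.appLE (P := @Smooth) p inferInstance ⟨V, hV⟩ ⟨W, hW⟩ hWV
  have hK := isKoszulRegularIdeal_ker_of_smooth_of_isLCIHom _ _ hsm hsurj hlci
  exact Groth.Agent.H8.KosBCImm.isRegularImmersionAt_of_isKoszulRegularIdeal j W hW hcl hK x hxW

/-- **(T)** -/
theorem isRegularImmersion_iff_lcip_comp_smooth {X Z Y : Scheme.{u}} (j : X ⟶ Z) [IsImmersion j]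
    (p : Z ⟶ Y) [Smooth p] : RegImm.IsRegularImmersion .koszul j ↔ LCIP (j ≫ p) :=
  ⟨fun h => lcip_comp _ _ (lcip_of_isRegularImmersion j h) (lcip_of_smooth p),
    isRegularImmersion_of_lcip_comp_smooth j p⟩

theorem isRegularImmersion_iff_lcip {X Z : Scheme.{u}} (j : X ⟶ Z) [IsImmersion j] :
    RegImm.IsRegularImmersion .koszul j ↔ LCIP j := by
  have := isRegularImmersion_iff_lcip_comp_smooth j (𝟙 Z)
  rwa [Category.comp_id] at this

end Groth.Agent.H8.KosQuot
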