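import Mathlib
import Groth.Prelude
import Groth.Agent.Lib.Helper8.KosQuot.Imm

set_option autoImplicit false
set_option linter.style.haveILetI false

universe u

open CategoryTheory CategoryTheory.Limits AlgebraicGeometry

attribute [local instance] HasDerivedCategory.standard

namespace Groth.Agent.H8.KosQuot

open Groth.Agent.H8.LCIHom

/-- **cancellation**: if `f ≫ g` is LCI and `g` is smooth then `f` is Koszul at every point. -/
theorem isKoszulAt_of_lcip_comp_smooth {X Y S : Scheme.{u}} (f : X ⟶ Y) (g : Y ⟶ S) [Smooth g]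
    (h : LCIP (f ≫ g)) (x : X) : Synt.IsKoszulAt f x := by
  haveI : LocallyOfFiniteType (f ≫ g) :=
    haveI := locallyOfFinitePresentation_of_lcip _ h
    inferInstance
  haveI : LocallyOfFiniteType f := locallyOfFiniteType_of_comp f g
  obtain ⟨V, hV, hfx, -⟩ :=
    exists_isAffineOpen_mem_and_subset (X := Y) (x := f x) (U := ⊤) trivial
  obtain ⟨U, hU, hx, hUV⟩ :=
    exists_isAffineOpen_mem_and_subset (X := X) (x := x) (U := f ⁻¹ᵁ V) hfx
  have hft : (f.appLE V U hUV).hom.FiniteType :=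
    HasRingHomProperty.appLE (P := @LocallyOfFiniteType) f inferInstance ⟨V, hV⟩ ⟨U, hU⟩ hUV
  letI alg : Algebra Γ(Y, V) Γ(X, U) := (f.appLE V U hUV).hom.toAlgebra
  have hft' : Algebra.FiniteType Γ(Y, V) Γ(X, U) := hft
  obtain ⟨n, φ, hφ⟩ := Algebra.FiniteType.iff_quotient_mvPolynomial''.mp hft'
  let φ' : CommRingCat.of (MvPolynomial (Fin n) Γ(Y, V)) ⟶ Γ(X, U) :=
    CommRingCat.ofHom φ.toRingHom
  let ι' : Γ(Y, V) ⟶ CommRingCat.of (MvPolynomial (Fin n) Γ(Y, V)) :=
    CommRingCat.ofHom (algebraMap Γ(Y, V) (MvPolynomial (Fin n) Γ(Y, V)))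
  let i : (U : Scheme.{u}) ⟶ Spec (CommRingCat.of (MvPolynomial (Fin n) Γ(Y, V))) :=
    hU.isoSpec.hom ≫ Spec.map φ'
  let π : Spec (CommRingCat.of (MvPolynomial (Fin n) Γ(Y, V))) ⟶ Y :=
    Spec.map ι' ≫ hV.fromSpec
  have hcompr : ι' ≫ φ' = f.appLE V U hUV := by
    ext a
    exact φ.commutes a
  have hcomm : i ≫ π = U.ι ≫ f := by
    calc i ≫ π = hU.isoSpec.hom ≫ (Spec.map φ' ≫ Spec.map ι') ≫ hV.fromSpec := by
          simp only [i, π, Category.assoc]
      _ = hU.isoSpec.hom ≫ Spec.map (f.appLE V U hUV) ≫ hV.fromSpec := by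
          rw [← Spec.map_comp, hcompr]
      _ = hU.isoSpec.hom ≫ hU.fromSpec ≫ f := by
          rw [IsAffineOpen.SpecMap_appLE_fromSpec f hV hU hUV]
      _ = U.ι ≫ f := by
          rw [← Category.assoc, hU.isoSpec_hom_fromSpec]
  have hsm0 : Smooth (Spec.map ι') := by
    rw [HasRingHomProperty.Spec_iff (P := @Smooth)]
    exact RingHom.smooth_algebraMap.mpr
      (⟨inferInstance, inferInstance⟩ :
        Algebra.Smooth Γ(Y, V) (MvPolynomial (Fin n) Γ(Y, V)))
  have hsm : Smooth π := inferInstance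
  have hci : IsClosedImmersion (Spec.map φ') := IsClosedImmersion.spec_of_surjective φ' hφ
  haveI : IsImmersion i := inferInstance
  have hlci : LCIP (i ≫ (π ≫ g)) := by
    rw [← Category.assoc, hcomm, Category.assoc]
    exact IsZariskiLocalAtSource.comp h U.ι
  have hreg : RegImm.IsRegularImmersion .koszul i :=
    isRegularImmersion_of_lcip_comp_smooth i (π ≫ g) hlci
  have hft2 : LocallyOfFiniteType (U.ι ≫ f) := inferInstance
  exact ⟨U, _, i, π, hx, hft2, hreg, hsm, hcomm⟩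

theorem lcip_of_lcip_comp_smooth {X Y S : Scheme.{u}} (f : X ⟶ Y) (g : Y ⟶ S) [Smooth g]
    (h : LCIP (f ≫ g)) : LCIP f :=
  lcip_of_forall_isKoszulAt f (isKoszulAt_of_lcip_comp_smooth f g h)

end Groth.Agent.H8.KosQuot
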